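import Cfsg.Agent.R2.T1.Inf.Cnt_m3
import Cfsg.Agent.H952.F4.MaxA
import Cfsg.Agent.R2.T1.P3.Q3
import Cfsg.Agent.ChevFast.E8
import Cfsg.Agent.H952.F4.Scott_m3
import Cfsg.Agent.FastGrp
import Cfsg.Agent.Prune
set_option linter.all false

-- part: R2/T1/N6D/Out
section
prune_inst 0x7f00000000000000000000000000000000000000000000000000000000000000000000000000000000000000000000000000000000000000000000000000000000000000000000000000000000000000003fffffffffffffffffffffffffffbeffbdffffffff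
set_option linter.all false
open scoped Cfsg.Agent.FastGrp

/-!
# S5929, `n = 6`: the index of `A₆` in a maximal subgroup (helper25)

* `exists_aut` : the automorphism induced by an element of `H`;
* `quot_two`, `card_le_720` : if no element of `H` induces an odd permutation, `[H : A₆] ≤ 2`;
* `odd_of_five` : this is the case if no element of order 5 is conjugate to its square in `H`.
-/

set_option autoImplicit false

namespace Cfsg.Agent.R2.T1.N6D

open Cfsg Cfsg.Lie Equiv Equiv.Perm Subgroup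
open Cfsg.Agent.H952.F4 (MaxAlt)
open Cfsg.Agent.H952.F4.MaxA (z5' r4 z5'_sign r4_sign r4_conj z5'_pow z5'_ne inner_of_even)
open Cfsg.Agent.LFourA.AltPsiAut (NE exists_perm inv_mul_mem)
open Cfsg.Agent.R2.T1

universe u v

section abs
variable {G : Type u} [Group G] {H : Subgroup G}

/-- the automorphism induced by an element of `H` -/
theorem exists_aut {n : ℕ} {φ : ↥(alternatingGroup (Fin n)) →* G} (hM : MaxAlt H n φ) {h : G} (hh : h ∈ H) :
    ∃ α : MulAut ↥(alternatingGroup (Fin n)), ∀ a, φ (α a) = h * φ a * h⁻¹ := by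
  have hex : ∀ a, ∃ b, φ b = h * φ a * h⁻¹ := fun a => hM.norm h hh _ ⟨a, rfl⟩
  choose f hf using hex
  have hmul : ∀ a b, f (a * b) = f a * f b := by
    intro a b
    apply hM.inj
    rw [map_mul, hf, hf, hf, map_mul]
    group
  have hinj : Function.Injective f := by
    intro a b hab
    apply hM.inj
    have h1 := hf a
    rw [hab, hf b] at h1
    exact (mul_left_cancel (mul_right_cancel h1)).symm
  have hbij : Function.Bijective f := Finite.injective_iff_bijective.1 hinj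
  exact ⟨MulEquiv.ofBijective (MonoidHom.mk' f hmul) hbij, hf⟩

variable {φ : ↥(alternatingGroup (Fin 6)) →* G}

/-- no element of `H` induces an odd permutation -/
def NoOdd (H : Subgroup G) (φ : ↥(alternatingGroup (Fin 6)) →* G) : Prop :=
  ∀ h ∈ H, ∀ σ : Perm (Fin 6), sign σ = -1 → ¬ ∀ a b : ↥(alternatingGroup (Fin 6)),
    (b : Perm (Fin 6)) = σ * a * σ⁻¹ → h * φ a * h⁻¹ = φ b

theorem mem_range_of (hM : MaxAlt H 6 φ) (hC : ∀ z ∈ H, (∀ a, φ a * z = z * φ a) → z = 1) (hodd : NoOdd H φ) {h : G}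
    (hh : h ∈ H) {α : MulAut ↥(alternatingGroup (Fin 6))} (hα : ∀ a, φ (α a) = h * φ a * h⁻¹) (hN : α ∈ NE) :
    h ∈ φ.range := by
  obtain ⟨σ, hσ⟩ := exists_perm hN
  have hs : sign σ = 1 := by
    rcases Int.units_eq_one_or (sign σ) with h1 | h1
    · exact h1
    · exfalso
      refine hodd h hh σ h1 fun a b hb => ?_
      rw [← hα]
      congr 1
      apply Subtype.ext
      rw [hσ, hb]
  obtain ⟨a, rfl⟩ := inner_of_even hs hσ
  have h1 : (φ a)⁻¹ * h = 1 := by
    refine hC _ (mul_mem (inv_mem (hM.le ⟨a, rfl⟩)) hh) fun b => ?_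
    have h2 := hα b
    rw [MulAut.conj_apply, map_mul, map_mul, map_inv] at h2
    have h3 : φ b = (φ a)⁻¹ * (h * φ b * h⁻¹) * φ a := by rw [← h2]; group
    calc φ b * ((φ a)⁻¹ * h) = ((φ a)⁻¹ * (h * φ b * h⁻¹) * φ a) * ((φ a)⁻¹ * h) := by rw [← h3]
      _ = (φ a)⁻¹ * h * φ b := by group
  exact ⟨a, (eq_of_inv_mul_eq_one h1)⟩

theorem aut_mul {h k : G} {α β : MulAut ↥(alternatingGroup (Fin 6))} (hα : ∀ a, φ (α a) = h * φ a * h⁻¹)
    (hβ : ∀ a, φ (β a) = k * φ a * k⁻¹) : ∀ a, φ ((α⁻¹ * β) a) = (h⁻¹ * k) * φ a * (h⁻¹ * k)⁻¹ := by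
  intro a
  have h1 := hα ((α⁻¹ * β) a)
  have h2 : α ((α⁻¹ * β) a) = β a := by
    rw [MulAut.mul_apply]
    exact α.apply_symm_apply (β a)
  rw [h2, hβ] at h1
  have h3 : φ ((α⁻¹ * β) a) = h⁻¹ * (k * φ a * k⁻¹) * h := by rw [h1]; group
  rw [h3]
  group

/-- **the outer elements form one coset** -/
theorem quot_two' (hM : MaxAlt H 6 φ) (hC : ∀ z ∈ H, (∀ a, φ a * z = z * φ a) → z = 1) (hodd : NoOdd H φ) {h k : G}
    (hh : h ∈ H) (hk : k ∈ H) (h1 : h ∉ φ.range) (k1 : k ∉ φ.range) : h⁻¹ * k ∈ φ.range := by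
  obtain ⟨α, hα⟩ := exists_aut hM hh
  obtain ⟨β, hβ⟩ := exists_aut hM hk
  have hαN : α ∉ NE := fun hN => h1 (mem_range_of hM hC hodd hh hα hN)
  have hβN : β ∉ NE := fun hN => k1 (mem_range_of hM hC hodd hk hβ hN)
  exact mem_range_of hM hC hodd (mul_mem (inv_mem hh) hk) (aut_mul hα hβ) (inv_mul_mem hαN hβN)

theorem card_A6 : Nat.card ↥(alternatingGroup (Fin 6)) = 360 := by
  rw [nat_card_alternatingGroup, Nat.card_eq_fintype_card, Fintype.card_fin]
  rfl

theorem card_le_720' [Finite G] (hM : MaxAlt H 6 φ) (hC : ∀ z ∈ H, (∀ a, φ a * z = z * φ a) → z = 1)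
    (hodd : NoOdd H φ) : Nat.card ↥H ≤ 720 := by
  classical
  have h1 : Nat.card φ.range = 360 := by
    rw [← card_A6]
    exact (Nat.card_congr (MonoidHom.ofInjective hM.inj).toEquiv).symm
  by_cases hex : ∃ h : ↥H, (h : G) ∉ φ.range
  · obtain ⟨h, hh⟩ := hex
    let f : ↥H → φ.range × Bool := fun k => if hk : (k : G) ∈ φ.range then (⟨k, hk⟩, true) else
      (⟨(h : G)⁻¹ * k, quot_two' hM hC hodd h.2 k.2 hh hk⟩, false)
    have hf : Function.Injective f := by
      intro a b hab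
      by_cases ha : (a : G) ∈ φ.range <;> by_cases hb : (b : G) ∈ φ.range <;> simp only [f, ha, hb, dif_pos, dif_neg,
        Prod.mk.injEq, Subtype.mk.injEq, not_false_eq_true, reduceCtorEq, and_false, and_true] at hab
      · exact Subtype.ext hab
      · exact Subtype.ext (mul_left_cancel hab)
    have h2 := Nat.card_le_card_of_injective f hf
    rw [Nat.card_prod, Nat.card_eq_fintype_card (α := Bool), Fintype.card_bool, h1] at h2
    exact h2
  · push Not at hex
    have h2 : Nat.card ↥H ≤ Nat.card φ.range :=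
      Nat.card_le_card_of_injective (fun a : ↥H => (⟨a, hex a⟩ : φ.range)) fun a b hab => by
        have h3 : (⟨a, hex a⟩ : φ.range) = ⟨b, hex b⟩ := hab
        have h4 := Subtype.ext_iff.1 h3
        exact Subtype.ext h4
    omega

/-- no fusion of the elements of order 5 -/
theorem odd_of_five (hM : MaxAlt H 6 φ)
    (h5 : ∀ h ∈ H, ∀ x : ↥(alternatingGroup (Fin 6)), x ^ 5 = 1 → x ≠ 1 → h * φ x * h⁻¹ ≠ φ (x ^ 2)) : NoOdd H φ := by
  intro h hh σ hσ hcon
  have ht : sign (r4 * σ⁻¹) = 1 := by rw [map_mul, map_inv, hσ, r4_sign]; decide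
  set t : ↥(alternatingGroup (Fin 6)) := ⟨r4 * σ⁻¹, mem_alternatingGroup.2 ht⟩ with htd
  set z : ↥(alternatingGroup (Fin 6)) := ⟨z5', mem_alternatingGroup.2 z5'_sign⟩ with hz
  have hb : sign (σ * z5' * σ⁻¹) = 1 := by
    rw [map_mul, map_mul, map_inv, z5'_sign, mul_one, mul_inv_cancel]
  have h1 := hcon z ⟨σ * z5' * σ⁻¹, mem_alternatingGroup.2 hb⟩ rfl
  refine h5 (φ t * h) (mul_mem (hM.le ⟨t, rfl⟩) hh) z (Subtype.ext z5'_pow) (fun h0 => z5'_ne (congrArg Subtype.val h0)) ?_
  have h2 : t * ⟨σ * z5' * σ⁻¹, mem_alternatingGroup.2 hb⟩ * t⁻¹ = z ^ 2 := by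
    apply Subtype.ext
    show r4 * σ⁻¹ * (σ * z5' * σ⁻¹) * (r4 * σ⁻¹)⁻¹ = z5' ^ 2
    rw [← r4_conj]
    group
  rw [← h2, map_mul, map_mul, map_inv, ← h1]
  group

end abs

section main
variable {F : Type u} [Field F] {H : Subgroup ↥(chevE7.group F)}
  {φ : ↥(alternatingGroup (Fin 6)) →* ↥(chevE7.group F)}

theorem quot_two (hM : MaxAlt H 6 φ) (hodd : NoOdd H φ) {h k : ↥(chevE7.group F)}
    (hh : h ∈ H) (hk : k ∈ H) (h1 : h ∉ φ.range) (k1 : k ∉ φ.range) : h⁻¹ * k ∈ φ.range :=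
  quot_two' hM (fun _ _ hz => centralizer_eq hM (by norm_num) hz) hodd hh hk h1 k1

/-- **`|H| ≤ 720`** -/
theorem card_le_720 [Finite F] (hM : MaxAlt H 6 φ) (hodd : NoOdd H φ) : Nat.card ↥H ≤ 720 :=
  card_le_720' hM (fun _ _ hz => centralizer_eq hM (by norm_num) hz) hodd

end main

end Cfsg.Agent.R2.T1.N6D
end

-- part: R2/T2/Alg/Pow
section
set_option linter.all false
open scoped Cfsg.Agent.FastGrp

-- part: R2/T2/Alg/Conj
section
/-!
# S5929: conjugation on the Lie algebra of type `E₇`, every characteristic (helper4)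

* `csM_NM'` : `[e_r, e_s] e_r = 0` on the 56-dimensional module, over every field;
* `del_equi'`, `del_L'` : `del F (L F g z) = rho F g * del F z * rho F g⁻¹`, over every field.
-/

set_option autoImplicit false
set_option maxRecDepth 100000

namespace Cfsg.Agent.R2.T2.Alg

open Cfsg Cfsg.Lie Matrix
open Cfsg.Agent.R2.T1 Cfsg.Agent.R2.PX Cfsg.Agent.R2.T1.Mu
open Cfsg.Agent.H943.E7V.Block (D1 rho)

universe u
variable {F : Type u} [Field F]

/-- the second commutator vanishes, over every field -/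
theorem csM_NM' {r s : ℕ} (hr : r < 126) (hs : s < 126) (hne : s ≠ 125 - r) : csM F r s * NM F r = 0 := by
  rcases h : cs r s with _ | ⟨u, c⟩
  · unfold csM
    rw [h]
    dsimp only
    rw [Matrix.zero_mul]
  · have hc : c ≠ 0 := by
      unfold cs at h
      by_cases h0 : lk (PC.getD r 0) s = 0
      · rw [if_pos h0] at h; exact absurd h (by simp)
      rw [if_neg h0, Option.some.injEq, Prod.mk.injEq] at h
      rw [← h.2]
      split_ifs <;> decide
    have h1 := csM_NM (F := ℚ) (by norm_num) hr hs hne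
    unfold csM at h1
    rw [h] at h1
    dsimp only at h1
    rw [Matrix.smul_mul] at h1
    have h2 : NM ℚ u * NM ℚ r = 0 := (smul_eq_zero.1 h1).resolve_left (Int.cast_ne_zero.2 hc)
    have h3 : NZ u * NZ r = 0 := by
      apply map_inj_rat
      rw [Matrix.map_mul, NZ_map, NZ_map, h2, Matrix.map_zero _ (map_zero _)]
    have h4 : NM F u * NM F r = 0 := by
      rw [← NZ_map, ← NZ_map, ← Matrix.map_mul, h3, Matrix.map_zero _ (map_zero _)]
    unfold csM
    rw [h]
    dsimp only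
    rw [Matrix.smul_mul, h4, smul_zero]

theorem del_x_basis' {r : ℕ} (hr : r < 126) (t : F) (j : chevE7.Idx) :
    (1 + t • NM F r) * del F (Pi.single j 1) = del F (chevE7.x F r t *ᵥ Pi.single j 1) * (1 + t • NM F r) := by
  have hsq := NM_mul_self (F := F) hr
  rcases j with i | ⟨s, hs⟩
  · rw [del_inl, del_x_inl hr, PX.one_add_mul, PX.mul_one_add, Matrix.sub_mul, Matrix.smul_mul, hsq, smul_zero, sub_zero]
    have h1 := Hi_comm (F := F) hr i.2
    have h3 : Hi F i * NM F r = NM F r * Hi F i + ((chevE7.cartan i r : ℤ) : F) • NM F r := by rw [← h1]; abel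
    rw [h3, smul_add, smul_smul, mul_comm t]
    abel
  · have hs' : s < 126 := hs
    rw [del_inr]
    show (1 + t • NM F r) * NM F s = _
    by_cases h3 : s = r
    · subst h3
      rw [del_x_self hr, PX.one_add_mul, PX.mul_one_add]
    by_cases h4 : s = 125 - r
    · subst h4
      rw [del_x_neg hr, PX.one_add_mul, PX.mul_one_add, Matrix.sub_mul, Matrix.add_mul, Matrix.smul_mul, Matrix.smul_mul, hsq,
        smul_zero, sub_zero, Hd_NM hr]
      have h5 : NM F r * NM F (125 - r) = NM F (125 - r) * NM F r + Hd F r := by rw [← NM_comm_neg hr]; abel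
      rw [h5, smul_add, smul_add, smul_smul, pow_two]
      abel
    · rw [del_x_inr hr hs' h4 h3, PX.one_add_mul, PX.mul_one_add, Matrix.add_mul, Matrix.smul_mul, csM_NM' hr hs' h4,
        smul_zero, add_zero, ← NM_comm hr hs' h4, smul_sub]
      abel

theorem del_x' {r : ℕ} (hr : r < 126) (t : F) (z : chevE7.Idx → F) :
    (1 + t • NM F r) * del F z = del F (chevE7.x F r t *ᵥ z) * (1 + t • NM F r) := by
  have hz : z = ∑ j, z j • (Pi.single j (1 : F) : chevE7.Idx → F) := by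
    ext k
    simp only [Finset.sum_apply, Pi.single_apply, _root_.Pi.smul_apply, _root_.smul_eq_mul, _root_.mul_ite, _root_.mul_one, _root_.MulZeroClass.mul_zero, _root_.Finset.sum_ite_eq, _root_.Finset.mem_univ, ↓ _root_.reduceIte]
  have h1 : del F (chevE7.x F r t *ᵥ z) = ∑ j, z j • del F (chevE7.x F r t *ᵥ Pi.single j 1) := by
    conv_lhs => rw [hz]
    rw [Matrix.mulVec_sum, map_sum]
    refine Finset.sum_congr rfl fun j _ => ?_
    rw [Matrix.mulVec_smul, map_smul]
  have h3 : del F z = ∑ j, z j • del F (Pi.single j 1) := by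
    conv_lhs => rw [hz]
    rw [map_sum]
    exact Finset.sum_congr rfl fun j _ => map_smul _ _ _
  rw [h1, h3, Finset.mul_sum, Finset.sum_mul]
  refine Finset.sum_congr rfl fun j _ => ?_
  rw [Matrix.mul_smul, Matrix.smul_mul, del_x_basis' hr]

/-- **equivariance, over every field** -/
theorem del_equi' (g : Gh F) (z : chevE7.Idx → F) : rho F g * del F z = del F (adM F g *ᵥ z) * rho F g := by
  have h := mem_of_gens (F := F) (S :=
    { carrier := {g | ∀ z : chevE7.Idx → F, rho F g * del F z = del F (adM F g *ᵥ z) * rho F g}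
      one_mem' := fun z => by rw [map_one, map_one, Matrix.one_mulVec, Matrix.one_mul, Matrix.mul_one]
      mul_mem' := by
        intro a b ha hb z
        rw [map_mul, map_mul, Matrix.mul_assoc, hb z, ← Matrix.mul_assoc, ha, ← Matrix.mulVec_mulVec, Matrix.mul_assoc]
      inv_mem' := by
        intro a ha z
        have h1 := ha (adM F a⁻¹ *ᵥ z)
        rw [Matrix.mulVec_mulVec, ← map_mul, mul_inv_cancel, map_one, Matrix.one_mulVec] at h1
        have h3 : rho F a⁻¹ * rho F a = 1 := by rw [← map_mul, inv_mul_cancel, map_one]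
        have h4 : rho F a * rho F a⁻¹ = 1 := by rw [← map_mul, mul_inv_cancel, map_one]
        calc rho F a⁻¹ * del F z = rho F a⁻¹ * (del F z * rho F a) * rho F a⁻¹ := by
              rw [Matrix.mul_assoc, Matrix.mul_assoc (del F z), h4, Matrix.mul_one]
          _ = _ := by rw [← h1, ← Matrix.mul_assoc, h3, Matrix.one_mul] }) ?_ g
  · exact h z
  · intro r hr t z
    rw [rho_xs' hr, adM_xs]
    exact del_x' hr t z

/-- **conjugation, over every field** -/
theorem del_L' (g : Gh F) (z : chevE7.Idx → F) : del F (L F g z) = rho F g * del F z * rho F g⁻¹ := by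
  rw [L_adM, Matrix.toLin'_apply, del_equi' g z, Matrix.mul_assoc, ← map_mul, mul_inv_cancel, map_one, Matrix.mul_one]

end Cfsg.Agent.R2.T2.Alg
end

-- part: R2/T2/Alg/Pow
section
/-!
# S5929: the Lie algebra of type `E₇` as an algebra of matrices (helper4)

`LR F` : the range of `del F`, a submodule of the `56 × 56` matrices.
* `br_mem` : closed under the commutator, over every field;
* `cube_mem` : closed under `A ↦ A ^ 3` if `3 = 0`;
* `sq_mem` : closed under `A ↦ A ^ 2` if `2 = 0`; `one_mem` : contains the scalars if `2 = 0`;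
* `trace_mul` : `trace (A * B) = 0` if `3 = 0`; `trace_mem` : `trace A = 0`, over every field;
* `conj_mem` : closed under conjugation by the group.
-/

set_option autoImplicit false
set_option maxRecDepth 100000

namespace Cfsg.Agent.R2.T2.Alg

open Cfsg Cfsg.Lie Matrix
open Cfsg.Agent.ChevalleyStructure.RootVec
open Cfsg.Agent.R2.T1 Cfsg.Agent.R2.PX Cfsg.Agent.R2.T1.Mu
open Cfsg.Agent.H943.E7V.Block (D1 rho)

universe u

/-- the Lie algebra, as a space of matrices -/
noncomputable def LR (F : Type u) [Field F] : Submodule F (Matrix D1 D1 F) := LinearMap.range (del F)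

variable {F : Type u} [Field F]

theorem mem_LR {M : Matrix D1 D1 F} : M ∈ LR F ↔ ∃ z, del F z = M := LinearMap.mem_range

theorem del_mem (z : chevE7.Idx → F) : del F z ∈ LR F := ⟨z, rfl⟩

theorem NM_mem {r : ℕ} (hr : r < 126) : NM F r ∈ LR F := ⟨_, del_inr ⟨r, hr⟩⟩

theorem Hi_mem {i : ℕ} (hi : i < 7) : Hi F i ∈ LR F := ⟨_, del_inl ⟨i, hi⟩⟩

theorem Hd_mem (r : ℕ) : Hd F r ∈ LR F := by
  rw [Hd_eq]
  exact Submodule.sum_mem _ fun i _ => Submodule.smul_mem _ _ (Hi_mem i.2)

theorem csM_mem {r s : ℕ} (hr : r < 126) (hs : s < 126) : csM F r s ∈ LR F := by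
  by_cases h0 : lk (PC.getD r 0) s = 0
  · rw [csM_zero h0]
    exact Submodule.zero_mem _
  · rw [csM_ne h0]
    rcases PC_spec hr hs with ⟨h5, -⟩ | ⟨-, -, h5, -, -⟩
    · exact absurd h5 h0
    · exact Submodule.smul_mem _ _ (NM_mem h5)

theorem LR_le {S : Submodule F (Matrix D1 D1 F)} (h1 : ∀ i < 7, Hi F i ∈ S) (h2 : ∀ r < 126, NM F r ∈ S) : LR F ≤ S := by
  rintro _ ⟨z, rfl⟩
  rw [del_apply]
  exact Submodule.add_mem _ (Submodule.sum_mem _ fun i _ => Submodule.smul_mem _ _ (h1 i i.2))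
    (Submodule.sum_mem _ fun s _ => Submodule.smul_mem _ _ (h2 s s.2))

theorem Hi_Hi (i j : ℕ) : Hi F i * Hi F j = Hi F j * Hi F i := by
  unfold Hi
  rw [Matrix.diagonal_mul_diagonal, Matrix.diagonal_mul_diagonal]
  congr 1
  funext b
  rw [mul_comm]

/-- `B ↦ A B - B A` -/
noncomputable def adL (A : Matrix D1 D1 F) : Matrix D1 D1 F →ₗ[F] Matrix D1 D1 F := LinearMap.mulLeft F A - LinearMap.mulRight F A

theorem adL_apply (A B : Matrix D1 D1 F) : adL A B = A * B - B * A := rfl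

theorem br_NM' {r : ℕ} (hr : r < 126) {B : Matrix D1 D1 F} (hB : B ∈ LR F) : NM F r * B - B * NM F r ∈ LR F := by
  have h : LR F ≤ (LR F).comap (adL (NM F r)) := by
    refine LR_le (fun i hi => ?_) fun s hs => ?_
    · rw [Submodule.mem_comap, adL_apply]
      have h1 := Hi_comm (F := F) hr hi
      have h3 : NM F r * Hi F i - Hi F i * NM F r = -(((chevE7.cartan i r : ℤ) : F) • NM F r) := by rw [← h1]; abel
      rw [h3]
      exact Submodule.neg_mem _ (Submodule.smul_mem _ _ (NM_mem hr))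
    · rw [Submodule.mem_comap, adL_apply]
      by_cases h4 : s = 125 - r
      · subst h4
        rw [NM_comm_neg hr]
        exact Hd_mem r
      · rw [NM_comm hr hs h4]
        exact csM_mem hr hs
  exact h hB

theorem br_Hi' {i : ℕ} (hi : i < 7) {B : Matrix D1 D1 F} (hB : B ∈ LR F) : Hi F i * B - B * Hi F i ∈ LR F := by
  have h : LR F ≤ (LR F).comap (adL (Hi F i)) := by
    refine LR_le (fun j hj => ?_) fun s hs => ?_
    · rw [Submodule.mem_comap, adL_apply, Hi_Hi, sub_self]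
      exact Submodule.zero_mem _
    · rw [Submodule.mem_comap, adL_apply, Hi_comm hs hi]
      exact Submodule.smul_mem _ _ (NM_mem hs)
  exact h hB

/-- **closed under the commutator, over every field** -/
theorem br_mem {A B : Matrix D1 D1 F} (hA : A ∈ LR F) (hB : B ∈ LR F) : A * B - B * A ∈ LR F := by
  have h : LR F ≤ (LR F).comap (adL B) := by
    refine LR_le (fun j hj => ?_) fun s hs => ?_
    · rw [Submodule.mem_comap, adL_apply]
      have := Submodule.neg_mem _ ((br_Hi' hj hB :))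
      rwa [neg_sub] at this
    · rw [Submodule.mem_comap, adL_apply]
      have := Submodule.neg_mem _ ((br_NM' hs hB :))
      rwa [neg_sub] at this
  have h1 : adL B A ∈ LR F := h hA
  have h3 := Submodule.neg_mem _ h1
  rw [adL_apply, neg_sub] at h3
  exact h3

/-! ### powers -/

theorem chkC : (W56.all fun b => (List.range 7).all fun i =>
    decide (chevE8.cartan i b = 0) || (decide (chevE8.cartan i b = 1) || decide (chevE8.cartan i b = -1))) = true := by
  (rewrite [Cfsg.Agent.ChevFast.E8.cartan]; decide +kernel)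

theorem cartan_cases {i : ℕ} (hi : i < 7) (b : D1) : chevE8.cartan i (nn b) = 0 ∨ chevE8.cartan i (nn b) = 1 ∨
    chevE8.cartan i (nn b) = -1 := by
  have h := List.all_eq_true.1 (List.all_eq_true.1 chkC (nn b) (nn_mem b)) i (List.mem_range.2 hi)
  simpa using h

theorem Hi_cube {i : ℕ} (hi : i < 7) : Hi F i * Hi F i * Hi F i = Hi F i := by
  unfold Hi
  rw [Matrix.diagonal_mul_diagonal, Matrix.diagonal_mul_diagonal]
  congr 1
  funext b
  rcases cartan_cases hi b with h | h | h <;> rw [h] <;> simp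

theorem Hi_sq (h2 : (2 : F) = 0) {i : ℕ} (hi : i < 7) : Hi F i * Hi F i = Hi F i := by
  unfold Hi
  rw [Matrix.diagonal_mul_diagonal]
  congr 1
  funext b
  rcases cartan_cases hi b with h | h | h
  · rw [h]; simp
  · rw [h]; simp
  · rw [h]
    push_cast
    linear_combination h2

/-- **cubes in characteristic 3** -/
theorem cube_mem (h3 : (3 : F) = 0) {A : Matrix D1 D1 F} (hA : A ∈ LR F) : A * A * A ∈ LR F := by
  let S : Submodule F (Matrix D1 D1 F) :=
    { carrier := {A | A ∈ LR F ∧ A * A * A ∈ LR F}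
      zero_mem' := ⟨Submodule.zero_mem _, by rw [mul_zero]; exact Submodule.zero_mem _⟩
      add_mem' := by
        rintro A B ⟨hA, hA3⟩ ⟨hB, hB3⟩
        refine ⟨Submodule.add_mem _ hA hB, ?_⟩
        have e : (A + B) * (A + B) * (A + B) = A * A * A + B * B * B + (A * (A * B - B * A) - (A * B - B * A) * A) +
            (B * (B * A - A * B) - (B * A - A * B) * B) + (3 : F) • (A * B * A + B * A * B) := by
          have e1 : (3 : F) • (A * B * A + B * A * B) = (A * B * A + B * A * B) + (A * B * A + B * A * B) +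
              (A * B * A + B * A * B) := by
            rw [show (3 : F) = 1 + 1 + 1 by norm_num, add_smul, add_smul, one_smul]
          rw [e1]
          noncomm_ring
        rw [e, h3, zero_smul, add_zero]
        exact Submodule.add_mem _ (Submodule.add_mem _ (Submodule.add_mem _ hA3 hB3) (br_mem hA (br_mem hA hB)))
          (br_mem hB (br_mem hB hA))
      smul_mem' := by
        rintro c A ⟨hA, hA3⟩
        refine ⟨Submodule.smul_mem _ _ hA, ?_⟩
        have e : (c • A) * (c • A) * (c • A) = (c * c * c) • (A * A * A) := by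
          rw [smul_mul_smul_comm, smul_mul_smul_comm]
        rw [e]
        exact Submodule.smul_mem _ _ hA3 }
  have h : LR F ≤ S := by
    refine LR_le (fun i hi => ⟨Hi_mem hi, ?_⟩) fun s hs => ⟨NM_mem hs, ?_⟩
    · rw [Hi_cube hi]
      exact Hi_mem hi
    · rw [NM_mul_self hs, zero_mul]
      exact Submodule.zero_mem _
  exact (h hA).2

/-- **squares in characteristic 2** -/
theorem sq_mem (h2 : (2 : F) = 0) {A : Matrix D1 D1 F} (hA : A ∈ LR F) : A * A ∈ LR F := by
  let S : Submodule F (Matrix D1 D1 F) :=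
    { carrier := {A | A ∈ LR F ∧ A * A ∈ LR F}
      zero_mem' := ⟨Submodule.zero_mem _, by rw [mul_zero]; exact Submodule.zero_mem _⟩
      add_mem' := by
        rintro A B ⟨hA, hA3⟩ ⟨hB, hB3⟩
        refine ⟨Submodule.add_mem _ hA hB, ?_⟩
        have e : (A + B) * (A + B) = A * A + B * B + (A * B - B * A) + (2 : F) • (B * A) := by
          rw [two_smul]
          noncomm_ring
        rw [e, h2, zero_smul, add_zero]
        exact Submodule.add_mem _ (Submodule.add_mem _ hA3 hB3) (br_mem hA hB)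
      smul_mem' := by
        rintro c A ⟨hA, hA3⟩
        refine ⟨Submodule.smul_mem _ _ hA, ?_⟩
        rw [smul_mul_smul_comm]
        exact Submodule.smul_mem _ _ hA3 }
  have h : LR F ≤ S := by
    refine LR_le (fun i hi => ⟨Hi_mem hi, ?_⟩) fun s hs => ⟨NM_mem hs, ?_⟩
    · rw [Hi_sq h2 hi]
      exact Hi_mem hi
    · rw [NM_mul_self hs]
      exact Submodule.zero_mem _
  exact (h hA).2

/-- the central element in characteristic 2 -/
def zc (i : ℕ) : ℤ := [0, 1, 0, 0, 1, 0, 1].getD i 0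

theorem chkZ : (W56.all fun b => decide (((List.range 7).map fun i => zc i * chevE8.cartan i b).sum % 2 = 1)) = true := by
  (rewrite [Cfsg.Agent.ChevFast.E8.cartan]; decide +kernel)

theorem sum_Hi (c : ℕ → ℤ) : ∑ i : Fin 7, ((c i : ℤ) : F) • Hi F i =
    Matrix.diagonal fun b => ((((List.range 7).map fun i => c i * chevE8.cartan i (nn b)).sum : ℤ) : F) := by
  refine mat_ext fun b => ?_
  rw [diag_bs, Matrix.sum_mulVec]
  simp only [Matrix.smul_mulVec, Hi, diag_bs, smul_smul]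
  rw [← Finset.sum_smul, sum_range7 (fun i => c i * chevE8.cartan i (nn b)), Int.cast_sum]
  simp only [Int.cast_mul]
  rfl

/-- **the scalars in characteristic 2** -/
theorem one_mem (h2 : (2 : F) = 0) : (1 : Matrix D1 D1 F) ∈ LR F := by
  have e : (1 : Matrix D1 D1 F) = ∑ i : Fin 7, ((zc i : ℤ) : F) • Hi F i := by
    rw [sum_Hi, ← Matrix.diagonal_one]
    congr 1
    funext b
    have h := of_decide_eq_true (List.all_eq_true.1 chkZ (nn b) (nn_mem b))
    obtain ⟨k, hk⟩ : ∃ k : ℤ, ((List.range 7).map fun i => zc i * chevE8.cartan i (nn b)).sum = 2 * k + 1 := ⟨_, by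
      have := Int.mul_ediv_add_emod (((List.range 7).map fun i => zc i * chevE8.cartan i (nn b)).sum) 2
      rw [h] at this
      exact this.symm⟩
    rw [hk]
    push_cast
    linear_combination -((k : ℤ) : F) * h2
  rw [e]
  exact Submodule.sum_mem _ fun i _ => Submodule.smul_mem _ _ (Hi_mem i.2)

/-! ### traces -/

theorem nz_diag {r : ℕ} (hr : r < 126) (b : D1) : nz r b b = 0 := by
  by_contra h
  obtain ⟨c, h1, -⟩ := nz_ne h
  have h3 := p2_of_mv hr h1
  rw [p2_self] at h3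
  omega

theorem trace_diag (f : ℕ → ℤ) : Matrix.trace (Matrix.diagonal fun b : D1 => ((f (nn b) : ℤ) : F)) = (((W56.map f).sum : ℤ) : F) := by
  rw [Matrix.trace_diagonal, ← sumD1 f, Int.cast_sum]

private theorem _root_.Cfsg.Agent.KOe890c80.e0.{ku, kv} {α : Type kv} {M : List α → Sort ku} (φ : ∀ l, M l) {z : M List.nil} {s : ∀ a l, M l → M (List.cons a l)} (h0 : φ List.nil = z) (hs : ∀ a l, φ (List.cons a l) = s a l (φ l)) (l : List α) : φ l = @List.rec α M z s l := List.rec h0 (fun a l ih => (hs a l).trans (congrArg (s a l) ih)) l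
private noncomputable def _root_.Cfsg.Agent.KOe890c80.k1.{ku0} : type_of% @List.all.{ku0} := @(fun x0 x1 x2 => @List.rec.{(ku0+1), ku0} @x0 @(fun x3 => (@x0 → @Bool) → @Bool) @(fun x3 => @Bool.true) @(fun x3 x4 x5 x6 => @Bool.rec.{1} @(fun x7 => @Bool) @Bool.false (@x5 @x6) (@x6 @x3)) @x1 @x2)
private theorem _root_.Cfsg.Agent.KOe890c80.e1.{ku0} : @List.all.{ku0} = @_root_.Cfsg.Agent.KOe890c80.k1.{ku0} := by delta _root_.Cfsg.Agent.KOe890c80.k1; funext a0 a1 a2; refine (congrFun (_root_.Cfsg.Agent.KOe890c80.e0 (fun a1 a2 => @List.all.{ku0} a0 a1 a2) ?_ (fun c0 c1 => ?_) a1) a2 :) <;> (rfl')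
private theorem _root_.Cfsg.Agent.KOe890c80.e2.{ku} {M : Nat → Sort ku} (φ : ∀ n, M n) {z : M Nat.zero} {s : ∀ n, M n → M (Nat.succ n)} (h0 : φ Nat.zero = z) (hs : ∀ n, φ (Nat.succ n) = s n (φ n)) (n : Nat) : φ n = @Nat.rec M z s n := Nat.rec h0 (fun n ih => (hs n).trans (congrArg (s n) ih)) n
private noncomputable def _root_.Cfsg.Agent.KOe890c80.k3 : type_of% @List.range.loop := @(fun x0 x1 => @Nat.rec.{1} @(fun x2 => (@List.{0} ℕ) → @List.{0} ℕ) @(fun x2 => @x2) @(fun x2 x3 x4 => @x3 (@x2 :: @x4)) @x0 @x1)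
private theorem _root_.Cfsg.Agent.KOe890c80.e3 : @List.range.loop = @_root_.Cfsg.Agent.KOe890c80.k3 := by delta _root_.Cfsg.Agent.KOe890c80.k3; funext a0 a1; refine (congrFun (_root_.Cfsg.Agent.KOe890c80.e2 (fun a0 a1 => @List.range.loop a0 a1) ?_ (fun c0 => ?_) a0) a1 :) <;> (rfl')
private noncomputable def _root_.Cfsg.Agent.KOe890c80.k4 : type_of% @List.range := @(fun x0 => @Cfsg.Agent.KOe890c80.k3 @x0 [])
private theorem _root_.Cfsg.Agent.KOe890c80.e4 : @List.range = @_root_.Cfsg.Agent.KOe890c80.k4 := by delta _root_.Cfsg.Agent.KOe890c80.k4; rewrite [← Cfsg.Agent.KOe890c80.e3]; rfl'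
private noncomputable def _root_.Cfsg.Agent.KOe890c80.k6 : type_of% @Decidable.decide := @(fun x0 x1 => @Decidable.rec.{1} _ @(fun x2 => @Bool) @(fun x2 => @Bool.false) @(fun x2 => @Bool.true) @x1)
private theorem _root_.Cfsg.Agent.KOe890c80.e6 : @Decidable.decide = @_root_.Cfsg.Agent.KOe890c80.k6 := by delta _root_.Cfsg.Agent.KOe890c80.k6; rfl'
private noncomputable def _root_.Cfsg.Agent.KOe890c80.k7 : type_of% @Nat.decEq := @(fun x0 x1 => @Bool.rec.{1} @(fun x2 => (@Eq.{1} _ (@Nat.beq @x0 @x1) @x2) → @Decidable (@Eq.{1} _ @x0 @x1)) @(fun x2 => @Decidable.isFalse _ (@Nat.ne_of_beq_eq_false _ _ @x2)) @(fun x2 => @Decidable.isTrue _ (@Nat.eq_of_beq_eq_true _ _ @x2)) (@Nat.beq @x0 @x1) (@Eq.refl.{1} _ (@Nat.beq @x0 @x1)))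
private theorem _root_.Cfsg.Agent.KOe890c80.e7 : @Nat.decEq = @_root_.Cfsg.Agent.KOe890c80.k7 := by delta _root_.Cfsg.Agent.KOe890c80.k7; rfl'
private noncomputable def _root_.Cfsg.Agent.KOe890c80.k8 : type_of% @Int.decEq := @(fun x0 x1 => @Int.rec.{1} @(fun x2 => @Decidable (@Eq.{1} _ @x2 @x1)) @(fun x2 => @Int.rec.{1} @(fun x3 => @Decidable (@Eq.{1} _ (@Int.ofNat @x2) @x3)) @(fun x3 => @Decidable.rec.{1} _ @(fun x4 => @Decidable (@Eq.{1} _ (@Int.ofNat @x2) (@Int.ofNat @x3))) @(fun x4 => @Decidable.isFalse _ (@Int.decEq._proof_2 @x2 @x3 @x4)) @(fun x4 => @Decidable.isTrue _ (@Int.decEq._proof_1 @x2 @x3 @x4)) (@Cfsg.Agent.KOe890c80.k7 @x2 @x3)) @(fun x3 => @Decidable.isFalse _ (@Int.decEq._proof_3 @x2 @x3)) @x1) @(fun x2 => @Int.rec.{1} @(fun x3 => @Decidable (@Eq.{1} _ (@Int.negSucc @x2) @x3)) @(fun x3 => @Decidable.isFalse _ (@Int.decEq._proof_4 @x2 @x3)) @(fun x3 => @Decidable.rec.{1} _ @(fun x4 => @Decidable (@Eq.{1} _ (@Int.negSucc @x2) (@Int.negSucc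 @x3))) @(fun x4 => @Decidable.isFalse _ (@Int.decEq._proof_6 @x2 @x3 @x4)) @(fun x4 => @Decidable.isTrue _ (@Int.decEq._proof_5 @x2 @x3 @x4)) (@Cfsg.Agent.KOe890c80.k7 @x2 @x3)) @x1) @x0)
private theorem _root_.Cfsg.Agent.KOe890c80.e8 : @Int.decEq = @_root_.Cfsg.Agent.KOe890c80.k8 := by delta _root_.Cfsg.Agent.KOe890c80.k8; rewrite [← Cfsg.Agent.KOe890c80.e7]; rfl'
private noncomputable def _root_.Cfsg.Agent.KOe890c80.k9 : type_of% @Int.instDecidableEq := @Cfsg.Agent.KOe890c80.k8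
private theorem _root_.Cfsg.Agent.KOe890c80.e9 : @Int.instDecidableEq = @_root_.Cfsg.Agent.KOe890c80.k9 := by delta _root_.Cfsg.Agent.KOe890c80.k9; rewrite [← Cfsg.Agent.KOe890c80.e8]; rfl'
private noncomputable def _root_.Cfsg.Agent.KOe890c80.k10 : (by first | exact type_of% @Cfsg.Agent.ChevFast.dz | exact Unit : Sort _) := by first | (refine @Subtype.val _ (fun g => @Cfsg.Agent.ChevFast.dz = @g) (@Subtype.mk _ _ (@(fun x0 => @Bool.rec.{1} @(fun x1 => ℤ) (@Int.ofNat (@Nat.shiftRight @x0 (nat_lit 1))) (@Int.negSucc (@Nat.shiftRight @x0 (nat_lit 1))) (@Nat.beq (@Nat.land @x0 (nat_lit 1)) (nat_lit 1)))) ?_); rfl') | exact @Cfsg.Agent.ChevFast.dz | exact ()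
private theorem _root_.Cfsg.Agent.KOe890c80.e10 : (by first | exact @Cfsg.Agent.ChevFast.dz = @_root_.Cfsg.Agent.KOe890c80.k10 | exact True : Prop) := by first | (delta _root_.Cfsg.Agent.KOe890c80.k10; exact @Subtype.property _ (fun g => @Cfsg.Agent.ChevFast.dz = @g) _) | rfl | trivial
private noncomputable def _root_.Cfsg.Agent.KOe890c80.k11 : (by first | exact type_of% @Cfsg.Agent.ChevFast.gz | exact Unit : Sort _) := by first | (refine @Subtype.val _ (fun g => @Cfsg.Agent.ChevFast.gz = @g) (@Subtype.mk _ _ (@(fun x0 x1 x2 x3 => @Cfsg.Agent.KOe890c80.k10 (@Nat.mod (@Nat.shiftRight (@Nat.mod (@Nat.shiftRight @x1 (@Nat.mul @x0 @x2)) (@Nat.pow (nat_lit 2) @x0)) (@Nat.mul (nat_lit 4) @x3)) (nat_lit 16)))) ?_); rewrite [← Cfsg.Agent.KOe890c80.e10]; (try delta Cfsg.Agent.ChevFast.gz); (try generalize @Cfsg.Agent.ChevFast.dz = g0); rfl') | exact @Cfsg.Agent.ChevFast.gz | exact ()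
private theorem _root_.Cfsg.Agent.KOe890c80.e11 : (by first | exact @Cfsg.Agent.ChevFast.gz = @_root_.Cfsg.Agent.KOe890c80.k11 | exact True : Prop) := by first | (delta _root_.Cfsg.Agent.KOe890c80.k11; exact @Subtype.property _ (fun g => @Cfsg.Agent.ChevFast.gz = @g) _) | rfl | trivial
private noncomputable def _root_.Cfsg.Agent.KOe890c80.k12.{ku0, ku1} : type_of% @List.foldr.{ku0, ku1} := @(fun x0 x1 x2 x3 x4 => @List.rec.{(ku1+1), ku0} @x0 @(fun x5 => @x1) @x3 @(fun x5 x6 x7 => @x2 @x5 @x7) @x4)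
private theorem _root_.Cfsg.Agent.KOe890c80.e12.{ku0, ku1} : @List.foldr.{ku0, ku1} = @_root_.Cfsg.Agent.KOe890c80.k12.{ku0, ku1} := by delta _root_.Cfsg.Agent.KOe890c80.k12; funext a0 a1 a2 a3 a4; refine (_root_.Cfsg.Agent.KOe890c80.e0 (fun a4 => @List.foldr.{ku0, ku1} a0 a1 a2 a3 a4) ?_ (fun c0 c1 => ?_) a4 :) <;> (rfl')
private noncomputable def _root_.Cfsg.Agent.KOe890c80.k13.{ku0} : type_of% @List.sum.{ku0} := @(fun x0 x1 x2 => @Cfsg.Agent.KOe890c80.k12.{ku0, ku0} _ _ @(fun x3 x4 => @Add.add.{ku0} _ @x1 @x3 @x4) (@Zero.zero.{ku0} _ @x2))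
private theorem _root_.Cfsg.Agent.KOe890c80.e13.{ku0} : @List.sum.{ku0} = @_root_.Cfsg.Agent.KOe890c80.k13.{ku0} := by delta _root_.Cfsg.Agent.KOe890c80.k13; rewrite [← Cfsg.Agent.KOe890c80.e12.{ku0, ku0}]; rfl'
private noncomputable def _root_.Cfsg.Agent.KOe890c80.k14.{ku0, ku1} : type_of% @List.map.{ku0, ku1} := @(fun x0 x1 x2 x3 => @List.rec.{(ku1+1), ku0} @x0 @(fun x4 => @List.{ku1} @x1) [] @(fun x4 x5 x6 => (@x2 @x4) :: @x6) @x3)
private theorem _root_.Cfsg.Agent.KOe890c80.e14.{ku0, ku1} : @List.map.{ku0, ku1} = @_root_.Cfsg.Agent.KOe890c80.k14.{ku0, ku1} := by delta _root_.Cfsg.Agent.KOe890c80.k14; funext a0 a1 a2 a3; refine (_root_.Cfsg.Agent.KOe890c80.e0 (fun a3 => @List.map.{ku0, ku1} a0 a1 a2 a3) ?_ (fun c0 c1 => ?_) a3 :) <;> (rfl')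

theorem chkT2 : ((List.range 7).all fun i => (List.range 7).all fun j =>
    decide ((W56.map fun b => chevE8.cartan i b * chevE8.cartan j b).sum % 12 = 0)) = true := by
  (rewrite [Cfsg.Agent.ChevFast.E8.cartan]; (first | (rewrite [Cfsg.Agent.KOe890c80.e1.{0}, Cfsg.Agent.KOe890c80.e4, Cfsg.Agent.KOe890c80.e6, Cfsg.Agent.KOe890c80.e9, Cfsg.Agent.KOe890c80.e13.{0}, Cfsg.Agent.KOe890c80.e14.{0, 0}, Cfsg.Agent.KOe890c80.e11]; decide +kernel) | decide +kernel))

private noncomputable def _root_.Cfsg.Agent.KOe890c80.k16.{ku0} : type_of% @List.get?Internal.{ku0} := @(fun x0 x1 x2 => @List.rec.{(ku0+1), ku0} @x0 @(fun x3 => ℕ → @Option.{ku0} @x0) @(fun x3 => @Option.none.{ku0} _) @(fun x3 x4 x5 x6 => @Nat.rec.{(ku0+1)} @(fun x7 => @Option.{ku0} @x0) (@Option.some.{ku0} _ @x3) @(fun x7 x8 => @x5 @x7) @x6) @x1 @x2)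
private theorem _root_.Cfsg.Agent.KOe890c80.e16.{ku0} : @List.get?Internal.{ku0} = @_root_.Cfsg.Agent.KOe890c80.k16.{ku0} := by delta _root_.Cfsg.Agent.KOe890c80.k16; funext a0 a1 a2; refine (congrFun (_root_.Cfsg.Agent.KOe890c80.e0 (fun a1 a2 => @List.get?Internal.{ku0} a0 a1 a2) ?_ (fun c0 c1 => ?_) a1) a2 :) <;> [(funext b0; (rfl')); (funext b0; (cases b0 with | @zero  => (rfl') | @succ b0_0 => (rfl')))]
private noncomputable def _root_.Cfsg.Agent.KOe890c80.k18.{ku0} : type_of% @ite.{ku0} := @(fun x0 x1 x2 x3 x4 => @Decidable.rec.{ku0} _ @(fun x5 => @x0) @(fun x5 => @x4) @(fun x5 => @x3) @x2)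
private theorem _root_.Cfsg.Agent.KOe890c80.e18.{ku0} : @ite.{ku0} = @_root_.Cfsg.Agent.KOe890c80.k18.{ku0} := by delta _root_.Cfsg.Agent.KOe890c80.k18; rfl'
private noncomputable def _root_.Cfsg.Agent.KOe890c80.k19 : type_of% @Bool.decEq := @(fun x0 x1 => @Bool.rec.{1} @(fun x2 => @Decidable (@Eq.{1} _ @x2 @x1)) (@Bool.rec.{1} @(fun x2 => @Decidable (@Eq.{1} _ @Bool.false @x2)) (@Decidable.isTrue _ (@rfl.{1} _ _)) (@Decidable.isFalse _ @(fun x2 => @Bool.noConfusion.{0} _ _ _ @x2)) @x1) (@Bool.rec.{1} @(fun x2 => @Decidable (@Eq.{1} _ @Bool.true @x2)) (@Decidable.isFalse _ @(fun x2 => @Bool.noConfusion.{0} _ _ _ @x2)) (@Decidable.isTrue _ (@rfl.{1} _ _)) @x1) @x0)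
private theorem _root_.Cfsg.Agent.KOe890c80.e19 : @Bool.decEq = @_root_.Cfsg.Agent.KOe890c80.k19 := by delta _root_.Cfsg.Agent.KOe890c80.k19; rfl'
private noncomputable def _root_.Cfsg.Agent.KOe890c80.k20 : type_of% @instDecidableEqBool := @Cfsg.Agent.KOe890c80.k19
private theorem _root_.Cfsg.Agent.KOe890c80.e20 : @instDecidableEqBool = @_root_.Cfsg.Agent.KOe890c80.k20 := by delta _root_.Cfsg.Agent.KOe890c80.k20; rewrite [← Cfsg.Agent.KOe890c80.e19]; rfl'
private noncomputable def _root_.Cfsg.Agent.KOe890c80.k21.{ku0} : type_of% @Option.isSome.{ku0} := @(fun x0 x1 => @Option.rec.{1, ku0} @x0 @(fun x2 => @Bool) @Bool.false @(fun x2 => @Bool.true) @x1)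
private theorem _root_.Cfsg.Agent.KOe890c80.e21.{ku0} : @Option.isSome.{ku0} = @_root_.Cfsg.Agent.KOe890c80.k21.{ku0} := by delta _root_.Cfsg.Agent.KOe890c80.k21; rfl'
private noncomputable def _root_.Cfsg.Agent.KOe890c80.k22.{ku0} : type_of% @List.filter.{ku0} := @(fun x0 x1 x2 => @List.rec.{(ku0+1), ku0} @x0 @(fun x3 => @List.{ku0} @x0) [] @(fun x3 x4 x5 => @Bool.rec.{(ku0+1)} @(fun x6 => @List.{ku0} @x0) @x5 (@x3 :: @x5) (@x1 @x3)) @x2)
private theorem _root_.Cfsg.Agent.KOe890c80.e22.{ku0} : @List.filter.{ku0} = @_root_.Cfsg.Agent.KOe890c80.k22.{ku0} := by delta _root_.Cfsg.Agent.KOe890c80.k22; funext a0 a1 a2; refine (_root_.Cfsg.Agent.KOe890c80.e0 (fun a2 => @List.filter.{ku0} a0 a1 a2) ?_ (fun c0 c1 => ?_) a2 :) <;> (rfl')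
private noncomputable def _root_.Cfsg.Agent.KOe890c80.k23 : (by first | exact type_of% @Cfsg.Agent.R2.T1.F56 | exact Unit : Sort _) := by first | (refine @Subtype.val _ (fun g => @Cfsg.Agent.R2.T1.F56 = @g) (@Subtype.mk _ _ (@(fun x0 x1 => @Cfsg.Agent.KOe890c80.k14.{0, 0} _ _ @(fun x2 => @Prod.snd.{0, 0} _ _ @x2) (@Cfsg.Agent.KOe890c80.k22.{0} _ @(fun x2 => @Nat.beq (@Prod.fst.{0, 0} _ _ @x2) @x1) (@Option.rec.{1, 0} (@List.{0} (ℕ × (ℕ × ℤ))) @(fun x2 => @List.{0} (ℕ × (ℕ × ℤ))) [] @(fun x2 => @x2) (@Cfsg.Agent.KOe890c80.k16.{0} _ @Cfsg.Agent.R2.T1.T56 @x0))))) ?_); rewrite [← Cfsg.Agent.KOe890c80.e16.{0}, ← Cfsg.Agent.KOe890c80.e22.{0}, ← Cfsg.Agent.KOe890c80.e14.{0, 0}]; (try delta Cfsg.Agent.R2.T1.F56); (try generalize @Cfsg.Agent.R2.T1.T56 = g0); rfl') | exact @Cfsg.Agent.R2.T1.F56 | exact ()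
private theorem _root_.Cfsg.Agent.KOe890c80.e23 : (by first | exact @Cfsg.Agent.R2.T1.F56 = @_root_.Cfsg.Agent.KOe890c80.k23 | exact True : Prop) := by first | (delta _root_.Cfsg.Agent.KOe890c80.k23; exact @Subtype.property _ (fun g => @Cfsg.Agent.R2.T1.F56 = @g) _) | rfl | trivial
private noncomputable def _root_.Cfsg.Agent.KOe890c80.k24 : (by first | exact type_of% @Cfsg.Agent.R2.T1.mv | exact Unit : Sort _) := by first | (refine @Subtype.val _ (fun g => @Cfsg.Agent.R2.T1.mv = @g) (@Subtype.mk _ _ (@(fun x0 x1 => @List.rec.{1, 0} (ℕ × ℤ) @(fun x2 => @Option.{0} (ℕ × ℤ)) (@Option.none.{0} _) @(fun x2 x3 x4 => @Option.some.{0} _ @x2) (@Cfsg.Agent.KOe890c80.k23 @x0 @x1))) ?_); rewrite [← Cfsg.Agent.KOe890c80.e23]; (try delta Cfsg.Agent.R2.T1.mv); (try generalize @Cfsg.Agent.R2.T1.F56 = g0); rfl') | exact @Cfsg.Agent.R2.T1.mv | exact ()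
private theorem _root_.Cfsg.Agent.KOe890c80.e24 : (by first | exact @Cfsg.Agent.R2.T1.mv = @_root_.Cfsg.Agent.KOe890c80.k24 | exact True : Prop) := by first | (delta _root_.Cfsg.Agent.KOe890c80.k24; exact @Subtype.property _ (fun g => @Cfsg.Agent.R2.T1.mv = @g) _) | rfl | trivial

theorem chkT3 : ((List.range 126).all fun r =>
    decide ((W56.map fun b => if (mv r b).isSome then (1 : ℤ) else 0).sum = 12)) = true := by
  (first | (rewrite [Cfsg.Agent.KOe890c80.e1.{0}, Cfsg.Agent.KOe890c80.e4, Cfsg.Agent.KOe890c80.e6, Cfsg.Agent.KOe890c80.e9, Cfsg.Agent.KOe890c80.e13.{0}, Cfsg.Agent.KOe890c80.e14.{0, 0}, Cfsg.Agent.KOe890c80.e18.{1}, Cfsg.Agent.KOe890c80.e20, Cfsg.Agent.KOe890c80.e21.{0}, Cfsg.Agent.KOe890c80.e24]; decide +kernel) | decide +kernel)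

theorem trace_Hi_Hi (h3 : (12 : F) = 0) {i j : ℕ} (hi : i < 7) (hj : j < 7) : Matrix.trace (Hi F i * Hi F j) = 0 := by
  unfold Hi
  rw [Matrix.diagonal_mul_diagonal]
  have e : (fun b : D1 => ((chevE8.cartan i (nn b) : ℤ) : F) * ((chevE8.cartan j (nn b) : ℤ) : F)) =
      fun b : D1 => (((fun b => chevE8.cartan i b * chevE8.cartan j b) (nn b) : ℤ) : F) := by
    funext b
    push_cast
    rfl
  rw [e, trace_diag (fun b => chevE8.cartan i b * chevE8.cartan j b)]
  have h := of_decide_eq_true (List.all_eq_true.1 (List.all_eq_true.1 chkT2 i (List.mem_range.2 hi)) j (List.mem_range.2 hj))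
  obtain ⟨k, hk⟩ := Int.dvd_of_emod_eq_zero h
  rw [hk]
  push_cast
  rw [h3, zero_mul]

theorem trace_Hi_NM {i s : ℕ} (hs : s < 126) : Matrix.trace (Hi F i * NM F s) = 0 := by
  unfold Matrix.trace
  refine Finset.sum_eq_zero fun b _ => ?_
  rw [Matrix.diag_apply, Hi, Matrix.diagonal_mul]
  show _ * ((nz s b b : ℤ) : F) = 0
  rw [nz_diag hs, Int.cast_zero, mul_zero]

theorem trace_NM_NM (h3 : (12 : F) = 0) {r s : ℕ} (hr : r < 126) (hs : s < 126) : Matrix.trace (NM F r * NM F s) = 0 := by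
  by_cases h : r = 125 - s
  · subst h
    have e : ∀ b : D1, (NM F (125 - s) * NM F s) b b = (((if (mv s (nn b)).isSome then (1 : ℤ) else 0) : ℤ) : F) := by
      intro b
      have h1 := congrFun (NM_neg_NM (F := F) hs b) b
      rw [Matrix.mulVec_mulVec, bs, Matrix.mulVec_single_one, Matrix.col_apply, Pi.smul_apply, Pi.single_eq_same,
        smul_eq_mul, mul_one] at h1
      rw [h1]
      rcases h5 : mv s (nn b) with _ | x
      · simp
      · simp
    unfold Matrix.trace
    have e2 : ∑ b : D1, (NM F (125 - s) * NM F s).diag b =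
        ((∑ b : D1, (fun b => if (mv s b).isSome then (1 : ℤ) else 0) (nn b) : ℤ) : F) := by
      rw [Int.cast_sum]
      exact Finset.sum_congr rfl fun b _ => e b
    rw [e2, sumD1 (fun b => if (mv s b).isSome then (1 : ℤ) else 0),
      of_decide_eq_true (List.all_eq_true.1 chkT3 s (List.mem_range.2 hs))]
    exact_mod_cast h3
  · unfold Matrix.trace
    refine Finset.sum_eq_zero fun b _ => ?_
    rw [Matrix.diag_apply, Matrix.mul_apply]
    refine Finset.sum_eq_zero fun a _ => ?_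
    show ((nz r b a : ℤ) : F) * ((nz s a b : ℤ) : F) = 0
    by_contra hne
    have h1 : nz r b a ≠ 0 := fun h0 => hne (by rw [h0, Int.cast_zero, zero_mul])
    have h2 : nz s a b ≠ 0 := fun h0 => hne (by rw [h0, Int.cast_zero, mul_zero])
    obtain ⟨c, h4, -⟩ := nz_ne h1
    obtain ⟨d, h5, -⟩ := nz_ne h2
    rcases mv_spec hs b with h6 | ⟨a', c', h6, -, -, h7⟩
    · rw [h6] at h5; exact absurd h5 (by simp)
    · rw [h6, Option.some.injEq, Prod.mk.injEq] at h5
      rw [nn_inj h5.1] at h7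
      exact h (mv_unique hr (by omega) h4 h7)

/-- **the trace form is zero if `12 = 0`** -/
theorem trace_mul (h3 : (12 : F) = 0) {A B : Matrix D1 D1 F} (hA : A ∈ LR F) (hB : B ∈ LR F) : Matrix.trace (A * B) = 0 := by
  have k1 : ∀ {i : ℕ}, i < 7 → ∀ {B : Matrix D1 D1 F}, B ∈ LR F → Matrix.trace (Hi F i * B) = 0 := by
    intro i hi B hB
    have h : LR F ≤ LinearMap.ker ((Matrix.traceLinearMap D1 F F).comp (LinearMap.mulLeft F (Hi F i))) :=
      (LR_le (fun j hj => trace_Hi_Hi h3 hi hj) fun s hs => trace_Hi_NM hs : _)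
    exact h hB
  have k2 : ∀ {r : ℕ}, r < 126 → ∀ {B : Matrix D1 D1 F}, B ∈ LR F → Matrix.trace (NM F r * B) = 0 := by
    intro r hr B hB
    have h : LR F ≤ LinearMap.ker ((Matrix.traceLinearMap D1 F F).comp (LinearMap.mulLeft F (NM F r))) :=
      (LR_le (fun j hj => by
        show Matrix.trace (NM F r * Hi F j) = 0
        rw [Matrix.trace_mul_comm]
        exact trace_Hi_NM hr) fun s hs => trace_NM_NM h3 hr hs : _)
    exact h hB
  have h : LR F ≤ LinearMap.ker ((Matrix.traceLinearMap D1 F F).comp (LinearMap.mulRight F B)) :=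
    (LR_le (fun j hj => k1 hj hB) fun s hs => k2 hs hB : _)
  exact h hA

/-! ### conjugation -/

theorem rho_inv_mul'' (g : Gh F) : rho F g⁻¹ * rho F g = 1 := by rw [← map_mul, inv_mul_cancel, map_one]

/-- `v ↦ v ^ 3` on the adjoint module, characteristic 3 -/
theorem exists_cube (h3 : (3 : F) = 0) (z : chevE7.Idx → F) : ∃ w : chevE7.Idx → F, del F w = del F z * del F z * del F z :=
  cube_mem h3 (del_mem z)

/-- `v ↦ v ^ 2` on the adjoint module, characteristic 2 -/
theorem exists_sq (h2 : (2 : F) = 0) (z : chevE7.Idx → F) : ∃ w : chevE7.Idx → F, del F w = del F z * del F z :=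
  sq_mem h2 (del_mem z)

end Cfsg.Agent.R2.T2.Alg
end
end

-- part: R2/T1/N6D/Pos
section
set_option linter.all false
open scoped Cfsg.Agent.FastGrp

/-!
# S5929, `n = 6`, `p = 2`: fixed points of elements of order 5 and 3 (helper18)

* `pos_rel` : `2 = 0`, `x ^ 5 = 1`, `t ^ 3 = 1`, `t ^ 2 = x ^ i * t * x ^ j`: the fixed space of `x` embeds into the
  fixed space of `t`;
* `pos` : for elements `a`, `c` of orders 3, 5 of `A₆` the fixed space of `c` is not larger than that of `a`.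
-/

set_option autoImplicit false

namespace Cfsg.Agent.R2.T1.N6D

open Module Equiv Equiv.Perm
open Cfsg.Agent.H952.F4 (ev)

universe u v

section gen
variable {F : Type u} [Field F] {G : Type*} [Group G] {M : Type v} [AddCommGroup M] [Module F M]

theorem mem_fix {ρ : Representation F G M} {x : G} {m : M} : m ∈ (Module.End.eigenspace (ρ x) 1) ↔ ρ x m = m := by
  rw [Module.End.mem_eigenspace_iff, one_smul]

theorem pos_inj (h2 : (2 : F) = 0) (ρ : Representation F G M) {x t : G} (hx : x ^ 5 = 1) {i j : ℕ}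
    (hr : t * t = x ^ i * t * x ^ j) {m : M} (hm : ρ x m = m) (h0 : m + ρ t m + ρ (t * t) m = 0) : m = 0 := by
  have two : ∀ y : M, y + y = 0 := by
    intro y
    rw [← two_smul F y, h2, zero_smul]
  have hp : ∀ k : ℕ, ρ (x ^ k) m = m := by
    intro k
    induction k with
    | zero => rw [pow_zero, map_one]; rfl
    | succ k ih => rw [pow_succ, map_mul, Module.End.mul_apply, hm, ih]
  have h1 : ρ (t * t) m = ρ (x ^ i) (ρ t m) := by
    rw [hr, map_mul, map_mul, Module.End.mul_apply, Module.End.mul_apply, hp]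
  -- the sum over the powers of `x`
  set S : M → M := fun y => ∑ k ∈ Finset.range 5, ρ (x ^ k) y with hS
  have hSi : ∀ (k : ℕ) (y : M), S (ρ (x ^ k) y) = S y := by
    have h1 : ∀ y : M, S (ρ x y) = S y := by
      intro y
      have e1 : ∀ k : ℕ, ρ (x ^ k) (ρ x y) = ρ (x ^ (k + 1)) y := by
        intro k
        rw [pow_succ, map_mul, Module.End.mul_apply]
      simp only [hS, e1]
      rw [Finset.sum_range_succ, Finset.sum_range_succ' (fun k => ρ (x ^ k) y), hx, pow_zero]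
    intro k y
    induction k with
    | zero => rw [pow_zero, map_one]; rfl
    | succ k ih => rw [pow_succ', map_mul, Module.End.mul_apply, h1, ih]
  have hSa : ∀ y z : M, S (y + z) = S y + S z := by
    intro y z
    simp only [hS, map_add, Finset.sum_add_distrib]
  have hSm : S m = m := by
    simp only [hS, hp]
    rw [Finset.sum_const, Finset.card_range]
    show (5 : ℕ) • m = m
    have : (5 : ℕ) • m = (m + m) + (m + m) + m := by
      rw [show (5 : ℕ) = 1 + 1 + 1 + 1 + 1 from rfl]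
      simp only [add_smul, one_smul]
      abel
    rw [this, two, zero_add]
  have h3 : S (m + ρ t m + ρ (t * t) m) = 0 := by
    rw [h0]
    simp only [hS, map_zero, Finset.sum_const_zero]
  rw [hSa, hSa, h1, hSi, hSm, add_assoc, two, add_zero] at h3
  exact h3

/-- the fixed space of `x` embeds into the fixed space of `t` -/
theorem pos_rel [FiniteDimensional F M] (h2 : (2 : F) = 0) (ρ : Representation F G M) {x t : G} (hx : x ^ 5 = 1)
    (ht : t ^ 3 = 1) {i j : ℕ} (hr : t * t = x ^ i * t * x ^ j) : ev (ρ x) 1 ≤ ev (ρ t) 1 := by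
  set f : ↥((Module.End.eigenspace (ρ x) 1)) →ₗ[F] ↥((Module.End.eigenspace (ρ t) 1)) :=
    LinearMap.codRestrict _ (((LinearMap.id : M →ₗ[F] M) + ρ t + ρ (t * t)).comp (Submodule.subtype _)) (by
      intro m
      rw [mem_fix]
      simp only [LinearMap.comp_apply, LinearMap.add_apply, LinearMap.id_apply, map_add, Submodule.subtype_apply]
      rw [← Module.End.mul_apply, ← Module.End.mul_apply, ← map_mul, ← map_mul, ← mul_assoc]
      have h3 : t * t * t = 1 := by rw [← ht, pow_succ, pow_succ, pow_one]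
      rw [h3, map_one, Module.End.one_apply]
      abel) with hf
  refine LinearMap.finrank_le_finrank_of_injective (f := f) ?_
  rw [← LinearMap.ker_eq_bot, LinearMap.ker_eq_bot']
  intro m hm
  have h1 := congrArg Subtype.val hm
  rw [hf] at h1
  apply Subtype.ext
  exact pos_inj h2 ρ hx hr (mem_fix.1 m.2) h1

/-- the dimension of the fixed space of a power -/
theorem ev_pow_five {x : G} (hx : x ^ 5 = 1) (ρ : Representation F G M) : ev (ρ (x * x)) 1 = ev (ρ x) 1 := by
  have h1 : (Module.End.eigenspace (ρ (x * x)) 1) = (Module.End.eigenspace (ρ x) 1) := by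
    ext m
    rw [mem_fix, mem_fix]
    constructor
    · intro h
      have h3 : x * x * (x * x) * (x * x) = x := by
        have e : x * x * (x * x) * (x * x) = x ^ 5 * x := by simp only [pow_succ, pow_zero, one_mul, mul_assoc]
        rw [e, hx, one_mul]
      rw [← h3, map_mul, map_mul, Module.End.mul_apply, Module.End.mul_apply, h, h, h]
    · intro h
      rw [map_mul, Module.End.mul_apply, h, h]
  unfold ev
  rw [h1]

theorem ev_cj (ρ : Representation F G M) (g x : G) : ev (ρ (g * x * g⁻¹)) 1 = ev (ρ x) 1 := by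
  have hinv : ∀ y : M, ρ g⁻¹ (ρ g y) = y := fun y => by
    rw [← Module.End.mul_apply, ← map_mul, inv_mul_cancel, map_one, Module.End.one_apply]
  have hinv' : ∀ y : M, ρ g (ρ g⁻¹ y) = y := fun y => by
    rw [← Module.End.mul_apply, ← map_mul, mul_inv_cancel, map_one, Module.End.one_apply]
  have key : (Module.End.eigenspace (ρ (g * x * g⁻¹)) 1) = ((Module.End.eigenspace (ρ x) 1)).map (ρ g) := by
    ext y
    rw [Submodule.mem_map, mem_fix]
    constructor
    · intro h
      refine ⟨ρ g⁻¹ y, ?_, hinv' y⟩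
      rw [mem_fix]
      rw [map_mul, map_mul, Module.End.mul_apply, Module.End.mul_apply] at h
      have h1 := congrArg (ρ g⁻¹) h
      rwa [hinv] at h1
    · rintro ⟨z, hz, rfl⟩
      rw [mem_fix] at hz
      rw [map_mul, map_mul, Module.End.mul_apply, Module.End.mul_apply, hinv, hz]
  unfold ev
  rw [key]
  refine LinearEquiv.finrank_eq (LinearEquiv.symm (Submodule.equivMapOfInjective (ρ g) ?_ _))
  intro a b hab
  rw [← hinv a, hab, hinv]

end gen

/-! ### conjugacy in `A₆` -/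

/-- `(0 1 2 3 4)` -/
def x5 : Perm (Fin 6) := c[0, 1, 2, 3, 4]
/-- `(0 1 2)` -/
def tA : Perm (Fin 6) := c[0, 1, 2]
/-- `(0 1 2)(3 5 4)` -/
def tB : Perm (Fin 6) := c[0, 1, 2] * c[3, 5, 4]

theorem x5_sign : sign x5 = 1 := by decide +kernel
theorem tA_sign : sign tA = 1 := by decide +kernel
theorem tB_sign : sign tB = 1 := by decide +kernel
theorem x5_pow : x5 ^ 5 = 1 := by decide +kernel
theorem tA_pow : tA ^ 3 = 1 := by decide +kernel
theorem tB_pow : tB ^ 3 = 1 := by decide +kernel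

theorem tA_rel : ∃ i j : Fin 5, tA * tA = x5 ^ i.val * tA * x5 ^ j.val := by decide +kernel
theorem tB_rel : ∃ i j : Fin 5, tB * tB = x5 ^ i.val * tB * x5 ^ j.val := by decide +kernel

theorem x5_type : x5.cycleType = {5} := by decide +kernel
theorem tA_type : tA.cycleType = {3} := by decide +kernel
theorem tB_type : tB.cycleType = {3, 3} := by decide +kernel

/-- conjugacy in `A₆` if an odd permutation normalizes suitably -/
theorem conj_alt {a b : Perm (Fin 6)} (h : a.cycleType = b.cycleType) {s b' : Perm (Fin 6)} (hs : sign s = -1)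
    (hsb : s * b * s⁻¹ = b') : ∃ g : Perm (Fin 6), sign g = 1 ∧ (g * a * g⁻¹ = b ∨ g * a * g⁻¹ = b') := by
  obtain ⟨g, hg⟩ := isConj_iff.1 (isConj_iff_cycleType_eq.2 h)
  rcases Int.units_eq_one_or (sign g) with h1 | h1
  · exact ⟨g, h1, Or.inl hg⟩
  · refine ⟨s * g, by rw [map_mul, hs, h1]; rfl, Or.inr ?_⟩
    rw [← hsb, ← hg]
    group

theorem type_of {σ : Perm (Fin 6)} {p : ℕ} (hp : p.Prime) (h : orderOf σ = p) : ∃ n : ℕ, σ.cycleType = Multiset.replicate (n + 1) p ∧
    (n + 1) * p ≤ 6 := by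
  obtain ⟨n, hn⟩ := cycleType_prime_order (σ := σ) (by rw [h]; exact hp)
  rw [h] at hn
  refine ⟨n, hn, ?_⟩
  have h1 : σ.cycleType.sum ≤ 6 := by
    rw [sum_cycleType]
    exact le_trans (Finset.card_le_univ _) (by simp)
  rw [hn, Multiset.sum_replicate, smul_eq_mul] at h1
  exact h1

section
variable {F : Type u} [Field F] {M : Type v} [AddCommGroup M] [Module F M]

/-- **fixed points of elements of orders 5 and 3** -/
theorem pos [FiniteDimensional F M] (h2 : (2 : F) = 0) (ρ : Representation F ↥(alternatingGroup (Fin 6)) M)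
    {a c : ↥(alternatingGroup (Fin 6))} (ha : orderOf a = 3) (hc : orderOf c = 5) : ev (ρ c) 1 ≤ ev (ρ a) 1 := by
  have ha' : orderOf (a : Perm (Fin 6)) = 3 := by rw [Subgroup.orderOf_coe, ha]
  have hc' : orderOf (c : Perm (Fin 6)) = 5 := by rw [Subgroup.orderOf_coe, hc]
  set X : ↥(alternatingGroup (Fin 6)) := ⟨x5, mem_alternatingGroup.2 x5_sign⟩ with hX
  have hX5 : X ^ 5 = 1 := Subtype.ext x5_pow
  -- the elements of order 5
  have key5 : ev (ρ c) 1 = ev (ρ X) 1 := by
    obtain ⟨n, hn, hn'⟩ := type_of (by norm_num) hc'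
    have hn0 : n = 0 := by omega
    subst hn0
    obtain ⟨g, hg, h⟩ := conj_alt (a := c) (b := x5) (s := c[1, 2, 4, 3]) (b' := x5 * x5)
      (by rw [hn, x5_type]; rfl) (by decide +kernel) (by decide +kernel)
    rcases h with h | h
    · have h1 : (⟨g, mem_alternatingGroup.2 hg⟩ : ↥(alternatingGroup (Fin 6))) * c *
          (⟨g, mem_alternatingGroup.2 hg⟩ : ↥(alternatingGroup (Fin 6)))⁻¹ = X := Subtype.ext h
      rw [← h1, ev_cj]
    · have h1 : (⟨g, mem_alternatingGroup.2 hg⟩ : ↥(alternatingGroup (Fin 6))) * c *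
          (⟨g, mem_alternatingGroup.2 hg⟩ : ↥(alternatingGroup (Fin 6)))⁻¹ = X * X := Subtype.ext h
      rw [← ev_pow_five hX5, ← h1, ev_cj]
  rw [key5]
  obtain ⟨n, hn, hn'⟩ := type_of (by norm_num) ha'
  have hn1 : n = 0 ∨ n = 1 := by omega
  rcases hn1 with rfl | rfl
  · obtain ⟨g, hg, h⟩ := conj_alt (a := a) (b := tA) (s := c[3, 4]) (b' := tA)
      (by rw [hn, tA_type]; rfl) (by decide +kernel) (by decide +kernel)
    rw [or_self] at h
    set T : ↥(alternatingGroup (Fin 6)) := ⟨tA, mem_alternatingGroup.2 tA_sign⟩ with hT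
    have h1 : (⟨g, mem_alternatingGroup.2 hg⟩ : ↥(alternatingGroup (Fin 6))) * a *
        (⟨g, mem_alternatingGroup.2 hg⟩ : ↥(alternatingGroup (Fin 6)))⁻¹ = T := Subtype.ext h
    rw [← ev_cj ρ ⟨g, mem_alternatingGroup.2 hg⟩ a, h1]
    obtain ⟨i, j, hij⟩ := tA_rel
    exact pos_rel h2 ρ hX5 (Subtype.ext tA_pow) (Subtype.ext hij)
  · obtain ⟨g, hg, h⟩ := conj_alt (a := a) (b := tB) (s := c[0, 3] * c[1, 5] * c[2, 4]) (b' := tB)
      (by rw [hn, tB_type]; rfl) (by decide +kernel) (by decide +kernel)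
    rw [or_self] at h
    set T : ↥(alternatingGroup (Fin 6)) := ⟨tB, mem_alternatingGroup.2 tB_sign⟩ with hT
    have h1 : (⟨g, mem_alternatingGroup.2 hg⟩ : ↥(alternatingGroup (Fin 6))) * a *
        (⟨g, mem_alternatingGroup.2 hg⟩ : ↥(alternatingGroup (Fin 6)))⁻¹ = T := Subtype.ext h
    rw [← ev_cj ρ ⟨g, mem_alternatingGroup.2 hg⟩ a, h1]
    obtain ⟨i, j, hij⟩ := tB_rel
    exact pos_rel h2 ρ hX5 (Subtype.ext tB_pow) (Subtype.ext hij)

end

end Cfsg.Agent.R2.T1.N6D
end
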